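import Mathlib
import Groth.Agent.Lib.Helper14.RedFib.Flat

/-!
# An affine chart of a blow-up, base changed along a flat map (helper14)

Abstract set-up for the depth-one case of Ratliff's theorem.
-/

set_option autoImplicit false
universe u

namespace Groth.Agent.Lib.Helper14.Ratliff

open TensorProduct

section chart

variable {D R B L : Type u} [CommRing D] [CommRing R] [CommRing B] [Field L]
  [Algebra D R] [Algebra D B] [Algebra D L]
  (ι : B →ₐ[D] L) (f : R →ₐ[D] L)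

/-- the map `B ⊗ R → L`. -/
noncomputable def Phi : B ⊗[D] R →ₐ[D] L :=
  Algebra.TensorProduct.lift ι f (fun _ _ => Commute.all _ _)

theorem Phi_tmul (b : B) (r : R) : Phi ι f (b ⊗ₜ r) = ι b * f r := by
  simp [Phi]

theorem algebraMap_tmul (d : D) (c : R) :
    (algebraMap D B d) ⊗ₜ[D] c = (1 : B) ⊗ₜ[D] (d • c) := by
  rw [Algebra.algebraMap_eq_smul_one, TensorProduct.smul_tmul]

variable (a0 : D) (hclear : ∀ b : B, ∃ k : ℕ, ∃ d : D, algebraMap D B a0 ^ k * b = algebraMap D B d)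

include hclear in
theorem exists_pow_mul_eq_one_tmul (z : B ⊗[D] R) :
    ∃ k : ℕ, ∃ c : R, ((algebraMap D B a0 ^ k) ⊗ₜ[D] (1 : R)) * z = (1 : B) ⊗ₜ[D] c := by
  induction z using TensorProduct.induction_on with
  | zero => exact ⟨0, 0, by simp⟩
  | tmul b r =>
    obtain ⟨k, d, hd⟩ := hclear b
    refine ⟨k, d • r, ?_⟩
    rw [Algebra.TensorProduct.tmul_mul_tmul, hd, one_mul, algebraMap_tmul]
  | add x y hx hy =>
    obtain ⟨k1, c1, h1⟩ := hx
    obtain ⟨k2, c2, h2⟩ := hy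
    refine ⟨k1 + k2, (a0 ^ k2) • c1 + (a0 ^ k1) • c2, ?_⟩
    have e1 : (algebraMap D B a0 ^ (k1 + k2)) ⊗ₜ[D] (1 : R) =
        ((algebraMap D B a0 ^ k2) ⊗ₜ[D] (1 : R)) * ((algebraMap D B a0 ^ k1) ⊗ₜ[D] (1 : R)) := by
      rw [Algebra.TensorProduct.tmul_mul_tmul, one_mul, ← pow_add, add_comm]
    have e2 : (algebraMap D B a0 ^ (k1 + k2)) ⊗ₜ[D] (1 : R) =
        ((algebraMap D B a0 ^ k1) ⊗ₜ[D] (1 : R)) * ((algebraMap D B a0 ^ k2) ⊗ₜ[D] (1 : R)) := by
      rw [Algebra.TensorProduct.tmul_mul_tmul, one_mul, ← pow_add]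
    have h3 : ((algebraMap D B a0 ^ (k1 + k2)) ⊗ₜ[D] (1 : R)) * x =
        (1 : B) ⊗ₜ[D] ((a0 ^ k2) • c1) := by
      rw [e1, mul_assoc, h1, Algebra.TensorProduct.tmul_mul_tmul, mul_one, one_mul, ← map_pow,
        algebraMap_tmul]
    have h4 : ((algebraMap D B a0 ^ (k1 + k2)) ⊗ₜ[D] (1 : R)) * y =
        (1 : B) ⊗ₜ[D] ((a0 ^ k1) • c2) := by
      rw [e2, mul_assoc, h2, Algebra.TensorProduct.tmul_mul_tmul, mul_one, one_mul, ← map_pow,
        algebraMap_tmul]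
    rw [mul_add, h3, h4, TensorProduct.tmul_add]

variable [IsDomain B] [Module.Flat D R]

theorem tmul_one_mem_nonZeroDivisors (b : B) (hb : b ≠ 0) :
    b ⊗ₜ[D] (1 : R) ∈ nonZeroDivisors (B ⊗[D] R) := by
  have h := Groth.Agent.Lib.Helper14.RedFib.algebraMap_mem_nonZeroDivisors_of_flat B (B ⊗[D] R) b hb
  exact h

include hclear in
theorem exists_pow_mul_mem_map_ker {z : B ⊗[D] R} (hz : Phi ι f z = 0) :
    ∃ k : ℕ, ((algebraMap D B a0 ^ k) ⊗ₜ[D] (1 : R)) * z ∈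
      (RingHom.ker f).map (Algebra.TensorProduct.includeRight : R →ₐ[D] B ⊗[D] R) := by
  obtain ⟨k, c, hc⟩ := exists_pow_mul_eq_one_tmul a0 hclear z
  refine ⟨k, ?_⟩
  rw [hc]
  have h1 : Phi ι f ((1 : B) ⊗ₜ[D] c) = 0 := by
    rw [← hc, map_mul, hz, mul_zero]
  rw [Phi_tmul, map_one, one_mul] at h1
  exact Ideal.mem_map_of_mem _ h1

section sep

variable {ι f a0}
variable {p α : R} (hp : f p = 0) (hsum : p + α = algebraMap D R a0)
  (hnil : ∀ p' : R, f p' = 0 → IsNilpotent (p' * α))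
  (ha0 : algebraMap D B a0 ≠ 0) (hf0 : f (algebraMap D R a0) ≠ 0)
  {π π' : B ⊗[D] R}
  (hπ : ((algebraMap D B a0) ⊗ₜ[D] (1 : R)) * π = (1 : B) ⊗ₜ[D] p)
  (hπ' : ((algebraMap D B a0) ⊗ₜ[D] (1 : R)) * π' = (1 : B) ⊗ₜ[D] α)

include hsum ha0 hπ hπ' in
theorem pi_add_pi' : π + π' = 1 := by
  have hnzd := tmul_one_mem_nonZeroDivisors (D := D) (R := R) (algebraMap D B a0) ha0
  have h1 : ((algebraMap D B a0) ⊗ₜ[D] (1 : R)) * (π + π') =
      ((algebraMap D B a0) ⊗ₜ[D] (1 : R)) * 1 := by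
    rw [mul_add, hπ, hπ', ← TensorProduct.tmul_add, hsum, mul_one,
      Algebra.algebraMap_eq_smul_one, Algebra.algebraMap_eq_smul_one, TensorProduct.smul_tmul]
  exact mul_cancel_left_mem_nonZeroDivisors hnzd |>.mp h1

include hp hnil ha0 hπ hπ' in
theorem isNilpotent_pi_mul_pi' : IsNilpotent (π * π') := by
  have hnzd := tmul_one_mem_nonZeroDivisors (D := D) (R := R) (algebraMap D B a0) ha0
  obtain ⟨k, hk⟩ := hnil p hp
  have h1 : (((algebraMap D B a0) ⊗ₜ[D] (1 : R)) ^ 2 * (π * π')) ^ k = 0 := by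
    have : ((algebraMap D B a0) ⊗ₜ[D] (1 : R)) ^ 2 * (π * π') =
        (((algebraMap D B a0) ⊗ₜ[D] (1 : R)) * π) * (((algebraMap D B a0) ⊗ₜ[D] (1 : R)) * π') := by
      ring
    rw [this, hπ, hπ', Algebra.TensorProduct.tmul_mul_tmul, one_mul,
      Algebra.TensorProduct.tmul_pow, one_pow, hk, TensorProduct.tmul_zero]
  rw [mul_pow] at h1
  refine ⟨k, ?_⟩
  have h2 : (((algebraMap D B a0) ⊗ₜ[D] (1 : R)) ^ 2) ^ k ∈ nonZeroDivisors (B ⊗[D] R) :=
    pow_mem (pow_mem hnzd 2) k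
  exact (mul_left_mem_nonZeroDivisors_eq_zero_iff h2).mp h1

include hp hf0 hπ in
theorem Phi_pi : Phi ι f π = 0 := by
  have h1 : Phi ι f (((algebraMap D B a0) ⊗ₜ[D] (1 : R)) * π) = 0 := by
    rw [hπ, Phi_tmul, map_one, one_mul, hp]
  rw [map_mul, Phi_tmul, map_one, mul_one, AlgHom.commutes] at h1
  have h2 : algebraMap D L a0 ≠ 0 := by
    rw [← f.commutes]; exact hf0
  exact (mul_eq_zero.mp h1).resolve_left h2

include hclear hp hsum hnil ha0 hπ hπ' in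
/-- every minimal prime below a prime containing `π` is the kernel of `Φ`. -/
theorem minimalPrime_eq_ker (N : Ideal (B ⊗[D] R)) [N.IsPrime] (hπN : π ∈ N)
    {Q : Ideal (B ⊗[D] R)} (hQ : Q ∈ minimalPrimes (B ⊗[D] R)) (hQN : Q ≤ N) :
    Q = RingHom.ker (Phi ι f) := by
  haveI : Q.IsPrime := hQ.1.1
  have hnzd := tmul_one_mem_nonZeroDivisors (D := D) (R := R) (algebraMap D B a0) ha0
  have hsum1 := pi_add_pi' hsum ha0 hπ hπ'
  have hnilp := isNilpotent_pi_mul_pi' hp hnil ha0 hπ hπ'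
  have h1 : π * π' ∈ Q := by
    obtain ⟨k, hk⟩ := hnilp
    exact Ideal.IsPrime.mem_of_pow_mem inferInstance k (hk ▸ Q.zero_mem)
  have hπ'N : π' ∉ N := by
    intro h
    have : (1 : B ⊗[D] R) ∈ N := hsum1 ▸ N.add_mem hπN h
    exact (Ideal.IsPrime.ne_top inferInstance) ((Ideal.eq_top_iff_one N).mpr this)
  have hπ'Q : π' ∉ Q := fun h => hπ'N (hQN h)
  have hπQ : π ∈ Q := (Ideal.IsPrime.mem_or_mem inferInstance h1).resolve_right hπ'Q
  have ha0Q : (algebraMap D B a0) ⊗ₜ[D] (1 : R) ∉ Q := fun h =>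
    Set.disjoint_left.mp (Ideal.disjoint_nonZeroDivisors_of_mem_minimalPrimes hQ) h hnzd
  have hαQ : (1 : B) ⊗ₜ[D] α ∉ Q := by
    rw [← hπ']
    intro h
    rcases Ideal.IsPrime.mem_or_mem inferInstance h with h | h
    · exact ha0Q h
    · exact hπ'Q h
  have hker : (RingHom.ker f).map (Algebra.TensorProduct.includeRight : R →ₐ[D] B ⊗[D] R) ≤ Q := by
    rw [Ideal.map_le_iff_le_comap]
    intro p' hp'
    rw [Ideal.mem_comap]
    change (1 : B) ⊗ₜ[D] p' ∈ Q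
    obtain ⟨k, hk⟩ := hnil p' hp'
    have h2 : ((1 : B) ⊗ₜ[D] p') * ((1 : B) ⊗ₜ[D] α) ∈ Q := by
      rw [Algebra.TensorProduct.tmul_mul_tmul, one_mul]
      apply Ideal.IsPrime.mem_of_pow_mem inferInstance k
      rw [Algebra.TensorProduct.tmul_pow, one_pow, hk, TensorProduct.tmul_zero]
      exact Q.zero_mem
    exact (Ideal.IsPrime.mem_or_mem inferInstance h2).resolve_right hαQ
  have hle : RingHom.ker (Phi ι f) ≤ Q := by
    intro z hz
    obtain ⟨k, hk⟩ := exists_pow_mul_mem_map_ker ι f a0 hclear (RingHom.mem_ker.mp hz)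
    have h3 := hker hk
    rcases Ideal.IsPrime.mem_or_mem inferInstance h3 with h | h
    · exfalso
      have : ((algebraMap D B a0) ⊗ₜ[D] (1 : R)) ^ k ∈ Q := by
        rw [Algebra.TensorProduct.tmul_pow, one_pow]; exact h
      exact ha0Q (Ideal.IsPrime.mem_of_pow_mem inferInstance k this)
    · exact h
  haveI : (RingHom.ker (Phi ι f)).IsPrime := RingHom.ker_isPrime _
  exact le_antisymm (hQ.2 ⟨inferInstance, bot_le⟩ hle) hle

include hclear hp hsum hnil ha0 hπ hπ' in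
theorem height_le_one (N : Ideal (B ⊗[D] R)) [N.IsPrime] (hπN : π ∈ N)
    (hq : (N.map (Ideal.Quotient.mk (RingHom.ker (Phi ι f)))).height ≤ 1) :
    N.height ≤ 1 := by
  haveI hKp : (RingHom.ker (Phi ι f)).IsPrime := RingHom.ker_isPrime _
  haveI : IsDomain ((B ⊗[D] R) ⧸ RingHom.ker (Phi ι f)) := Ideal.Quotient.isDomain _
  have hKN : RingHom.ker (Phi ι f) ≤ N := by
    obtain ⟨Q, hQ, hQN⟩ := Ideal.exists_minimalPrimes_le (bot_le : (⊥ : Ideal (B ⊗[D] R)) ≤ N)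
    have hQK : Q = RingHom.ker (Phi ι f) :=
      minimalPrime_eq_ker hclear hp hsum hnil ha0 hπ hπ' N hπN hQ hQN
    rw [← hQK]
    exact hQN
  haveI hNbar : (N.map (Ideal.Quotient.mk (RingHom.ker (Phi ι f)))).IsPrime :=
    Ideal.map_isPrime_of_surjective Ideal.Quotient.mk_surjective (by rwa [Ideal.mk_ker])
  have hq' : (N.map (Ideal.Quotient.mk (RingHom.ker (Phi ι f)))).height ≤ ((1 : ℕ) : ℕ∞) := by
    exact_mod_cast hq
  rw [Ideal.height_le_iff] at hq'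
  have : N.height ≤ ((1 : ℕ) : ℕ∞) := by
    rw [Ideal.height_le_iff]
    intro Q hQp hQN
    haveI := hQp
    obtain ⟨Q0, hQ0, hQ0Q⟩ := Ideal.exists_minimalPrimes_le (bot_le : (⊥ : Ideal (B ⊗[D] R)) ≤ Q)
    have hQ0K : Q0 = RingHom.ker (Phi ι f) :=
      minimalPrime_eq_ker hclear hp hsum hnil ha0 hπ hπ' N hπN hQ0 (hQ0Q.trans hQN.le)
    have hKQ : RingHom.ker (Phi ι f) ≤ Q := hQ0K ▸ hQ0Q
    haveI hQbar : (Q.map (Ideal.Quotient.mk (RingHom.ker (Phi ι f)))).IsPrime :=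
      Ideal.map_isPrime_of_surjective Ideal.Quotient.mk_surjective (by rwa [Ideal.mk_ker])
    have hlt : Q.map (Ideal.Quotient.mk (RingHom.ker (Phi ι f))) <
        N.map (Ideal.Quotient.mk (RingHom.ker (Phi ι f))) := by
      refine lt_of_le_of_ne (Ideal.map_mono hQN.le) ?_
      intro heq
      have h1 := congrArg (Ideal.comap (Ideal.Quotient.mk (RingHom.ker (Phi ι f)))) heq
      rw [Ideal.comap_map_of_surjective _ Ideal.Quotient.mk_surjective,
        Ideal.comap_map_of_surjective _ Ideal.Quotient.mk_surjective,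
        ← RingHom.ker_eq_comap_bot, Ideal.mk_ker, sup_eq_left.mpr hKQ, sup_eq_left.mpr hKN] at h1
      exact hQN.ne h1
    have h2 := hq' _ hQbar hlt
    have h3 : (Q.map (Ideal.Quotient.mk (RingHom.ker (Phi ι f)))).height = 0 := by
      have : (Q.map (Ideal.Quotient.mk (RingHom.ker (Phi ι f)))).height < 1 := by exact_mod_cast h2
      exact ENat.lt_one_iff_eq_zero.mp this
    rw [Ideal.height_eq_zero_iff_eq_bot, Ideal.map_eq_bot_iff_le_ker, Ideal.mk_ker] at h3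
    have hQK : Q = RingHom.ker (Phi ι f) := le_antisymm h3 hKQ
    have hQmin : Q ∈ minimalPrimes (B ⊗[D] R) := by
      rw [hQK, ← hQ0K]; exact hQ0
    have : Q.height = 0 := Ideal.height_eq_zero_iff.mpr hQmin
    rw [this]
    exact_mod_cast zero_lt_one
  exact_mod_cast this

end sep

end chart

end Groth.Agent.Lib.Helper14.Ratliff
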