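import Mathlib

/-!
# The affine chart `D[a_j / a_0]` of the blow-up of an ideal of a domain (helper14)
-/

set_option autoImplicit false
universe u

namespace Groth.Agent.Lib.Helper14.Ratliff

section

variable {D : Type u} [CommRing D] [IsDomain D] {s : ℕ} (a : Fin s → D) (j0 : Fin s)

/-- the fractions `a_j / a_0`. -/
noncomputable def gFrac (j : Fin s) : FractionRing D :=
  algebraMap D (FractionRing D) (a j) / algebraMap D (FractionRing D) (a j0)

/-- the chart `D[a_j/a_0]` as a subalgebra of the fraction field. -/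
noncomputable def chartSub : Subalgebra D (FractionRing D) :=
  Algebra.adjoin D (Set.range (gFrac a j0))

/-- the generators as elements of the chart. -/
noncomputable def gB (j : Fin s) : chartSub a j0 :=
  ⟨gFrac a j0 j, Algebra.subset_adjoin ⟨j, rfl⟩⟩

variable (ha0 : a j0 ≠ 0)

include ha0 in
theorem a0_mul_gB (j : Fin s) :
    algebraMap D (chartSub a j0) (a j0) * gB a j0 j = algebraMap D (chartSub a j0) (a j) := by
  apply Subtype.ext
  change algebraMap D (FractionRing D) (a j0) * gFrac a j0 j = algebraMap D (FractionRing D) (a j)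
  have h : algebraMap D (FractionRing D) (a j0) ≠ 0 := by
    rw [Ne, map_eq_zero_iff _ (IsFractionRing.injective D (FractionRing D))]; exact ha0
  rw [gFrac, mul_div_cancel₀ _ h]

include ha0 in
theorem chart_clear (b : chartSub a j0) :
    ∃ k : ℕ, ∃ d : D,
      algebraMap D (chartSub a j0) (a j0) ^ k * b = algebraMap D (chartSub a j0) d := by
  obtain ⟨x, hx⟩ := b
  induction hx using Algebra.adjoin_induction with
  | mem x hx =>
    obtain ⟨j, rfl⟩ := hx
    exact ⟨1, a j, by rw [pow_one]; exact a0_mul_gB a j0 ha0 j⟩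
  | algebraMap d => exact ⟨0, d, by rw [pow_zero, one_mul]; rfl⟩
  | add x y hx hy ihx ihy =>
    obtain ⟨k1, d1, h1⟩ := ihx
    obtain ⟨k2, d2, h2⟩ := ihy
    refine ⟨k1 + k2, a j0 ^ k2 * d1 + a j0 ^ k1 * d2, ?_⟩
    have e : (⟨x + y, Subalgebra.add_mem _ hx hy⟩ : chartSub a j0) = ⟨x, hx⟩ + ⟨y, hy⟩ := rfl
    rw [e, mul_add, map_add, map_mul, map_mul, map_pow, map_pow, ← h1, ← h2]
    ring
  | mul x y hx hy ihx ihy =>
    obtain ⟨k1, d1, h1⟩ := ihx
    obtain ⟨k2, d2, h2⟩ := ihy
    refine ⟨k1 + k2, d1 * d2, ?_⟩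
    have e : (⟨x * y, Subalgebra.mul_mem _ hx hy⟩ : chartSub a j0) = ⟨x, hx⟩ * ⟨y, hy⟩ := rfl
    rw [e, map_mul, ← h1, ← h2]
    ring

theorem chart_finiteType : Algebra.FiniteType D (chartSub a j0) := by
  rw [← Subalgebra.fg_iff_finiteType]
  have h := Subalgebra.fg_adjoin_finset (R := D) (Set.finite_range (gFrac a j0)).toFinset
  rw [Set.Finite.coe_toFinset] at h
  exact h

theorem chart_algebraMap_injective : Function.Injective (algebraMap D (chartSub a j0)) := by
  intro x y h
  apply IsFractionRing.injective D (FractionRing D)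
  exact congrArg Subtype.val h

instance : FaithfulSMul D (chartSub a j0) :=
  (faithfulSMul_iff_algebraMap_injective _ _).mpr (chart_algebraMap_injective a j0)

theorem chart_isAlgebraic : Algebra.IsAlgebraic D (chartSub a j0) := by
  haveI : Algebra.IsAlgebraic D (FractionRing D) :=
    IsLocalization.isAlgebraic (FractionRing D) (nonZeroDivisors D)
  exact ⟨fun z => (isAlgebraic_algHom_iff (chartSub a j0).val Subtype.val_injective).mp
    (Algebra.IsAlgebraic.isAlgebraic _)⟩

variable {L : Type u} [Field L] [Algebra D L] (hinj : Function.Injective (algebraMap D L))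

/-- the embedding of the chart in a field containing `D`. -/
noncomputable def chartι : chartSub a j0 →ₐ[D] L :=
  (IsFractionRing.liftAlgHom (K := FractionRing D) (g := Algebra.ofId D L) hinj).comp
    (chartSub a j0).val

include ha0 in
theorem chartι_gB (j : Fin s) :
    chartι a j0 hinj (gB a j0 j) = algebraMap D L (a j) / algebraMap D L (a j0) := by
  have h0 : algebraMap D L (a j0) ≠ 0 := by
    rw [Ne, map_eq_zero_iff _ hinj]; exact ha0
  rw [eq_div_iff h0, ← AlgHom.commutes (chartι a j0 hinj), ← map_mul, mul_comm,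
    a0_mul_gB a j0 ha0, AlgHom.commutes]

include ha0 in
theorem chartι_mem (V : Subring L) (hV : ∀ d : D, algebraMap D L d ∈ V)
    (hg : ∀ j, algebraMap D L (a j) / algebraMap D L (a j0) ∈ V) (b : chartSub a j0) :
    chartι a j0 hinj b ∈ V := by
  obtain ⟨x, hx⟩ := b
  induction hx using Algebra.adjoin_induction with
  | mem x hx =>
    obtain ⟨j, rfl⟩ := hx
    have := chartι_gB a j0 ha0 hinj j
    change chartι a j0 hinj (gB a j0 j) ∈ V
    rw [this]; exact hg j
  | algebraMap d =>
    change chartι a j0 hinj (algebraMap D (chartSub a j0) d) ∈ V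
    rw [AlgHom.commutes]; exact hV d
  | add x y hx hy ihx ihy =>
    have e : (⟨x + y, Subalgebra.add_mem _ hx hy⟩ : chartSub a j0) = ⟨x, hx⟩ + ⟨y, hy⟩ := rfl
    rw [e, map_add]; exact V.add_mem ihx ihy
  | mul x y hx hy ihx ihy =>
    have e : (⟨x * y, Subalgebra.mul_mem _ hx hy⟩ : chartSub a j0) = ⟨x, hx⟩ * ⟨y, hy⟩ := rfl
    rw [e, map_mul]; exact V.mul_mem ihx ihy

end

end Groth.Agent.Lib.Helper14.Ratliff
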