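import Mathlib
import Groth.Prelude.Def_EGA4b
import Groth.Agent.Lib.Helper14.ComplQuot
import Groth.Agent.Lib.Helper14.ComplEtale

/-!
# Preparations for Ratliff's theorem (helper14)
-/

set_option autoImplicit false
universe u

namespace Groth.Agent.Lib.Helper14.Ratliff

open IsLocalRing EGA4

section general

variable {R : Type u} [CommRing R] [IsNoetherianRing R]

/-- the intersection of the minimal primes other than `P`. -/
noncomputable def otherMin (P : Ideal R) : Ideal R :=
  sInf {P' | P' ∈ minimalPrimes R ∧ P' ≠ P}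

theorem finite_other (P : Ideal R) : {P' | P' ∈ minimalPrimes R ∧ P' ≠ P}.Finite :=
  (minimalPrimes.finite_of_isNoetherianRing R).subset (fun _ h => h.1)

theorem exists_le_of_otherMin_le (P : Ideal R) {J : Ideal R} [J.IsPrime] (h : otherMin P ≤ J) :
    ∃ P' ∈ minimalPrimes R, P' ≠ P ∧ P' ≤ J := by
  have hfin := finite_other P
  have h1 : otherMin P = hfin.toFinset.inf id := by
    rw [otherMin, Finset.inf_id_eq_sInf, Set.Finite.coe_toFinset]
  rw [h1, Ideal.IsPrime.inf_le' inferInstance] at h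
  obtain ⟨P', hP', hle⟩ := h
  rw [Set.Finite.mem_toFinset] at hP'
  exact ⟨P', hP'.1, hP'.2, hle⟩

theorem inf_otherMin_le_nilradical {P : Ideal R} (hP : P ∈ minimalPrimes R) :
    P ⊓ otherMin P ≤ nilradical R := by
  have h0 : nilradical R = sInf (minimalPrimes R) := by
    rw [nilradical, ← Ideal.sInf_minimalPrimes]; rfl
  rw [h0]
  apply le_sInf
  intro P' hP'
  by_cases h : P' = P
  · rw [h]; exact inf_le_left
  · exact inf_le_right.trans (sInf_le ⟨hP', h⟩)

variable [IsLocalRing R]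

/-- if `R/P` has dimension one then the only prime strictly above `P` is the maximal ideal. -/
theorem eq_maximalIdeal_of_lt (P : Ideal R) [P.IsPrime] (hdim : ringKrullDim (R ⧸ P) = 1)
    (Q : Ideal R) [Q.IsPrime] (hPQ : P < Q) : Q = maximalIdeal R := by
  haveI : IsLocalRing (R ⧸ P) :=
    IsLocalRing.of_surjective' (Ideal.Quotient.mk P) Ideal.Quotient.mk_surjective
  haveI : IsDomain (R ⧸ P) := Ideal.Quotient.isDomain P
  haveI hQb : (Q.map (Ideal.Quotient.mk P)).IsPrime :=
    Ideal.map_isPrime_of_surjective Ideal.Quotient.mk_surjective (by rw [Ideal.mk_ker]; exact hPQ.le)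
  have hne : Q.map (Ideal.Quotient.mk P) ≠ ⊥ := by
    intro h
    rw [Ideal.map_eq_bot_iff_le_ker, Ideal.mk_ker] at h
    exact not_le_of_gt hPQ h
  have h1 : (1 : ℕ∞) ≤ (Q.map (Ideal.Quotient.mk P)).height := by
    rw [Order.one_le_iff_pos, pos_iff_ne_zero]
    intro h
    exact hne (Ideal.height_eq_zero_iff_eq_bot.mp h)
  have h2 : ((Q.map (Ideal.Quotient.mk P)).height : WithBot ℕ∞) ≤ ringKrullDim (R ⧸ P) :=
    Ideal.height_le_ringKrullDim_of_isPrime
  have h3 : ((Q.map (Ideal.Quotient.mk P)).height : WithBot ℕ∞) = ringKrullDim (R ⧸ P) := by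
    apply le_antisymm h2
    rw [hdim]
    exact_mod_cast h1
  haveI : FiniteRingKrullDim (R ⧸ P) := inferInstance
  have h4 := (Ideal.height_eq_ringKrullDim_iff).mp h3
  have h5 : Q = (Q.map (Ideal.Quotient.mk P)).comap (Ideal.Quotient.mk P) := by
    rw [Ideal.comap_map_of_surjective _ Ideal.Quotient.mk_surjective, ← RingHom.ker_eq_comap_bot,
      Ideal.mk_ker, sup_eq_left.mpr hPQ.le]
  rw [h5, h4]
  haveI : ((maximalIdeal (R ⧸ P)).comap (Ideal.Quotient.mk P)).IsMaximal :=
    Ideal.comap_isMaximal_of_surjective _ Ideal.Quotient.mk_surjective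
  exact IsLocalRing.eq_maximalIdeal this

theorem exists_pow_le_sup_otherMin {P : Ideal R} (hP : P ∈ minimalPrimes R)
    (hdim : ringKrullDim (R ⧸ P) = 1) :
    ∃ N : ℕ, maximalIdeal R ^ N ≤ P ⊔ otherMin P := by
  haveI : P.IsPrime := hP.1.1
  apply Ideal.exists_pow_le_of_le_radical_of_fg _ (IsNoetherian.noetherian _)
  rw [Ideal.radical_eq_sInf]
  apply le_sInf
  rintro J ⟨hJ, hJp⟩
  haveI := hJp
  obtain ⟨P', hP', hne, hle⟩ := exists_le_of_otherMin_le P (le_sup_right.trans hJ)
  have hPJ : P ≤ J := le_sup_left.trans hJ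
  have hlt : P < J := by
    refine lt_of_le_of_ne hPJ ?_
    intro h
    rw [← h] at hle
    exact hne (le_antisymm hle (hP.2 hP'.1 hle))
  rw [eq_maximalIdeal_of_lt P hdim J hlt]

end general

section completion

variable (D : Type u) [CommRing D] [IsNoetherianRing D] [IsLocalRing D]

theorem exists_sub_mem_pow (N : ℕ) (x : Cpl D) :
    ∃ d : D, x - algebraMap D (Cpl D) d ∈ maximalIdeal (Cpl D) ^ N := by
  obtain ⟨d, hd⟩ := Ideal.Quotient.mk_surjective (AdicCompletion.evalₐ (maximalIdeal D) N x)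
  refine ⟨d, ?_⟩
  rw [AdicCompletion.maximalIdeal_eq_map (R := D), ← Ideal.map_pow]
  apply Groth.Agent.Lib.Helper14.ComplQuot.mem_map_of_evalₐ_eq_zero _ (IsNoetherian.noetherian _)
  rw [map_sub, sub_eq_zero, ← hd]
  simp [AdicCompletion.algebraMap_apply]

theorem map_comap_eq_of_pow_le (c : Ideal (Cpl D)) (N : ℕ) (hN : maximalIdeal (Cpl D) ^ N ≤ c) :
    (c.comap (algebraMap D (Cpl D))).map (algebraMap D (Cpl D)) = c := by
  apply le_antisymm Ideal.map_comap_le
  intro x hx
  obtain ⟨d, hd⟩ := exists_sub_mem_pow D N x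
  have hdc : algebraMap D (Cpl D) d ∈ c := by
    have : algebraMap D (Cpl D) d = x - (x - algebraMap D (Cpl D) d) := by ring
    rw [this]
    exact c.sub_mem hx (hN hd)
  have h1 : algebraMap D (Cpl D) d ∈ (c.comap (algebraMap D (Cpl D))).map (algebraMap D (Cpl D)) :=
    Ideal.mem_map_of_mem _ hdc
  have h2 : maximalIdeal (Cpl D) ^ N ≤
      (c.comap (algebraMap D (Cpl D))).map (algebraMap D (Cpl D)) := by
    rw [AdicCompletion.maximalIdeal_eq_map (R := D), ← Ideal.map_pow]
    apply Ideal.map_mono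
    rw [← Ideal.map_le_iff_le_comap, Ideal.map_pow, ← AdicCompletion.maximalIdeal_eq_map (R := D)]
    exact hN
  have : x = (x - algebraMap D (Cpl D) d) + algebraMap D (Cpl D) d := by ring
  rw [this]
  exact Ideal.add_mem _ (h2 hd) h1

end completion

end Groth.Agent.Lib.Helper14.Ratliff
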