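import Mathlib
import Groth.Agent.Lib.Helper14.Ratliff.Chart
import Groth.Agent.S0554

/-!
# The image of the chart in the fraction field of a one-dimensional quotient (helper14)
-/

set_option autoImplicit false
universe u

namespace Groth.Agent.Lib.Helper14.Ratliff

open TensorProduct IsLocalRing

attribute [local instance] Algebra.TensorProduct.rightAlgebra

section

variable {D R B : Type u} [CommRing D] [CommRing R] [CommRing B] [Algebra D R] [Algebra D B]
  (P : Ideal R) [P.IsPrime]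

/-- the map `R → Frac (R/P)`. -/
noncomputable def fL : R →ₐ[D] FractionRing (R ⧸ P) :=
  (IsScalarTower.toAlgHom D (R ⧸ P) (FractionRing (R ⧸ P))).comp (Ideal.Quotient.mkₐ D P)

theorem fL_apply (r : R) :
    fL (D := D) P r = algebraMap (R ⧸ P) (FractionRing (R ⧸ P)) (Ideal.Quotient.mk P r) := rfl

theorem fL_eq_zero_iff (r : R) : fL (D := D) P r = 0 ↔ r ∈ P := by
  rw [fL_apply, map_eq_zero_iff _ (IsFractionRing.injective (R ⧸ P) (FractionRing (R ⧸ P))),
    Ideal.Quotient.eq_zero_iff_mem]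

variable [IsNoetherianRing R] [IsLocalRing R] [Algebra.FiniteType D B]
  (ι : B →ₐ[D] FractionRing (R ⧸ P))

theorem finiteType_tensor : Algebra.FiniteType R (B ⊗[D] R) :=
  Algebra.FiniteType.equiv (inferInstance : Algebra.FiniteType R (R ⊗[D] B))
    (Algebra.TensorProduct.commRight D R B)

theorem algebraMap_right_apply (r : R) : algebraMap R (B ⊗[D] R) r = (1 : B) ⊗ₜ[D] r := rfl

theorem height_map_le_one (hdim : ringKrullDim (R ⧸ P) ≤ 1) (N : Ideal (B ⊗[D] R)) [N.IsPrime]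
    (hKN : RingHom.ker (Phi ι (fL (D := D) P)) ≤ N)
    (hmN : (maximalIdeal R).map (algebraMap R (B ⊗[D] R)) ≤ N) :
    (N.map (Ideal.Quotient.mk (RingHom.ker (Phi ι (fL (D := D) P))))).height ≤ 1 := by
  set K := RingHom.ker (Phi ι (fL (D := D) P)) with hK
  haveI hKp : K.IsPrime := RingHom.ker_isPrime _
  haveI : IsDomain ((B ⊗[D] R) ⧸ K) := Ideal.Quotient.isDomain _
  haveI : Algebra.FiniteType R (B ⊗[D] R) := finiteType_tensor
  have hPK : P ≤ K.comap (algebraMap R (B ⊗[D] R)) := by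
    intro r hr
    rw [Ideal.mem_comap, hK, RingHom.mem_ker, algebraMap_right_apply, Phi_tmul, map_one, one_mul,
      fL_eq_zero_iff]
    exact hr
  have hKP : K.comap (algebraMap R (B ⊗[D] R)) ≤ P := by
    intro r hr
    rw [Ideal.mem_comap, hK, RingHom.mem_ker, algebraMap_right_apply, Phi_tmul, map_one, one_mul,
      fL_eq_zero_iff] at hr
    exact hr
  letI : Algebra (R ⧸ P) ((B ⊗[D] R) ⧸ K) :=
    (Ideal.quotientMap K (algebraMap R (B ⊗[D] R)) hPK).toAlgebra
  haveI : IsScalarTower R (R ⧸ P) ((B ⊗[D] R) ⧸ K) := IsScalarTower.of_algebraMap_eq (fun _ => rfl)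
  haveI : Algebra.FiniteType (R ⧸ P) ((B ⊗[D] R) ⧸ K) :=
    Algebra.FiniteType.of_restrictScalars_finiteType R (R ⧸ P) ((B ⊗[D] R) ⧸ K)
  have hinj : Function.Injective (algebraMap (R ⧸ P) ((B ⊗[D] R) ⧸ K)) :=
    Ideal.quotientMap_injective' hKP
  haveI : FaithfulSMul (R ⧸ P) ((B ⊗[D] R) ⧸ K) :=
    (faithfulSMul_iff_algebraMap_injective _ _).mpr hinj
  -- the injective map to the fraction field
  let Φbar : ((B ⊗[D] R) ⧸ K) →ₐ[R ⧸ P] FractionRing (R ⧸ P) :=
    { toRingHom := RingHom.kerLift (Phi ι (fL (D := D) P)).toRingHom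
      commutes' := by
        intro c
        obtain ⟨r, rfl⟩ := Ideal.Quotient.mk_surjective c
        change Phi ι (fL (D := D) P) ((1 : B) ⊗ₜ[D] r) = _
        rw [Phi_tmul, map_one, one_mul, fL_apply] }
  have hΦinj : Function.Injective Φbar := RingHom.kerLift_injective _
  haveI : Algebra.IsAlgebraic (R ⧸ P) (FractionRing (R ⧸ P)) :=
    IsLocalization.isAlgebraic (FractionRing (R ⧸ P)) (nonZeroDivisors (R ⧸ P))
  haveI : Algebra.IsAlgebraic (R ⧸ P) ((B ⊗[D] R) ⧸ K) :=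
    ⟨fun z => (isAlgebraic_algHom_iff Φbar hΦinj).mp (Algebra.IsAlgebraic.isAlgebraic _)⟩
  -- the prime
  haveI hq : (N.map (Ideal.Quotient.mk K)).IsPrime :=
    Ideal.map_isPrime_of_surjective Ideal.Quotient.mk_surjective (by rwa [Ideal.mk_ker])
  haveI : IsLocalRing (R ⧸ P) :=
    IsLocalRing.of_surjective' (Ideal.Quotient.mk P) Ideal.Quotient.mk_surjective
  haveI hlo : (N.map (Ideal.Quotient.mk K)).LiesOver (maximalIdeal (R ⧸ P)) := by
    refine ⟨?_⟩
    have hle : maximalIdeal (R ⧸ P) ≤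
        (N.map (Ideal.Quotient.mk K)).comap (algebraMap (R ⧸ P) ((B ⊗[D] R) ⧸ K)) := by
      intro c hc
      obtain ⟨r, rfl⟩ := Ideal.Quotient.mk_surjective c
      have hr : r ∈ maximalIdeal R := by
        rw [mem_maximalIdeal, mem_nonunits_iff] at hc ⊢
        exact fun hu => hc (hu.map _)
      rw [Ideal.mem_comap]
      change Ideal.Quotient.mk K (algebraMap R (B ⊗[D] R) r) ∈ _
      exact Ideal.mem_map_of_mem _ (hmN (Ideal.mem_map_of_mem _ hr))
    have hne : (N.map (Ideal.Quotient.mk K)).comap (algebraMap (R ⧸ P) ((B ⊗[D] R) ⧸ K)) ≠ ⊤ :=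
      (Ideal.comap_isPrime _ _).ne_top
    exact (IsLocalRing.maximalIdeal.isMaximal _).eq_of_le hne hle
  have h := Groth.Agent.S0554.result (R ⧸ P) ((B ⊗[D] R) ⧸ K) (maximalIdeal (R ⧸ P))
    (N.map (Ideal.Quotient.mk K))
  rw [_root_.trdeg_eq_zero (R := R ⧸ P) (A := (B ⊗[D] R) ⧸ K), add_zero] at h
  have h1 : ((N.map (Ideal.Quotient.mk K)).height : Cardinal.{u}) ≤
      ((maximalIdeal (R ⧸ P)).height : Cardinal.{u}) :=
    le_trans (self_le_add_right _ _) h
  have h2 : (N.map (Ideal.Quotient.mk K)).height ≤ (maximalIdeal (R ⧸ P)).height :=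
    Cardinal.ofENat_le_ofENat.mp h1
  have h3 : ((maximalIdeal (R ⧸ P)).height : WithBot ℕ∞) ≤ 1 := by
    rw [IsLocalRing.maximalIdeal_height_eq_ringKrullDim]; exact hdim
  have h4 : (maximalIdeal (R ⧸ P)).height ≤ 1 := by exact_mod_cast h3
  exact h2.trans h4

end

end Groth.Agent.Lib.Helper14.Ratliff
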