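import Mathlib
import Groth.Prelude.Def_EGA4b
import Groth.Prelude.Def_Found
import Groth.Agent.Lib.Helper14.Ratliff.Chart
import Groth.Agent.Lib.Helper14.Ratliff.QuotDim
import Groth.Agent.Lib.Helper14.Ratliff.Prep
import Groth.Agent.Lib.Helper14.Ratliff.ChartB
import Groth.Agent.Lib.Helper14.FormalEquidim
import Groth.Agent.Lib.Helper27.BrCpl2
import Groth.Agent.S0555

/-!
# Ratliff's theorem, the depth-one case (helper14)

If the completion of a universally catenary Noetherian local domain `D` has a minimal prime `P`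
with `dim D̂/P = 1`, then `dim D ≤ 1`.
-/

set_option autoImplicit false
set_option maxHeartbeats 1000000
universe u

namespace Groth.Agent.Lib.Helper14.Ratliff

open IsLocalRing TensorProduct EGA4

attribute [local instance] Algebra.TensorProduct.rightAlgebra

theorem mul_sub_one_mem_aux {T : Type*} [CommRing T] (N : Ideal T) (y b' b i : T)
    (h1 : (y - b') * b ∈ N) (hi : i ∈ N) (hyi : y * b + i = 1) : b' * b - 1 ∈ N := by
  have e : b' * b - 1 = -((y - b') * b) - i := by
    rw [← hyi]; ring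
  rw [e]
  exact N.sub_mem (N.neg_mem h1) hi

section

variable (D : Type u) [CommRing D] [IsDomain D] [IsNoetherianRing D] [IsLocalRing D]

/-- The data extracted from a depth-one minimal prime: a birational finite type extension `B` of
`D` and a prime of `B ⊗ D̂` of height at most one containing the maximal ideal of `D̂`. -/
theorem exists_chart_of_depthOne
    (P : Ideal (Cpl D)) (hP : P ∈ minimalPrimes (Cpl D)) (hdim : ringKrullDim (Cpl D ⧸ P) = 1) :
    ∃ (s : ℕ) (a : Fin s → D) (j0 : Fin s), a j0 ≠ 0 ∧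
      ∃ N : Ideal ((chartSub a j0) ⊗[D] Cpl D), N.IsMaximal ∧
        Ideal.height (R := (chartSub a j0) ⊗[D] Cpl D) N ≤ 1 ∧
        (maximalIdeal (Cpl D)).map (algebraMap (Cpl D) ((chartSub a j0) ⊗[D] Cpl D)) ≤ N := by
  haveI : IsNoetherianRing (Cpl D) := ComplEtale.isNoetherianRing_completion D
  haveI hPp : P.IsPrime := hP.1.1
  haveI : Module.FaithfullyFlat D (Cpl D) := Module.FaithfullyFlat.of_flat_of_isLocalHom
  have hinjDR : Function.Injective (algebraMap D (Cpl D)) :=
    FaithfulSMul.algebraMap_injective D (Cpl D)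
  -- `P ∩ D = 0`
  have hPD : P.comap (algebraMap D (Cpl D)) = ⊥ := by
    have := FormalEquidim.comap_mem_minimalPrimes (R := D) hP
    rw [IsDomain.minimalPrimes_eq_singleton_bot] at this
    exact this
  obtain ⟨N₀, hN₀⟩ := exists_pow_le_sup_otherMin hP hdim
  set c := P ⊔ otherMin P with hc
  set I := c.comap (algebraMap D (Cpl D)) with hI
  have hIc : I.map (algebraMap D (Cpl D)) = c := map_comap_eq_of_pow_le D c N₀ hN₀
  have hIne : I ≠ ⊥ := by
    intro h0
    rw [h0, Ideal.map_bot] at hIc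
    have h1 : maximalIdeal (Cpl D) ^ N₀ ≤ P := by rw [← hIc] at hN₀; exact hN₀.trans bot_le
    have h2 : maximalIdeal (Cpl D) ≤ P := Ideal.IsPrime.le_of_pow_le h1
    have h3 : P = maximalIdeal (Cpl D) :=
      ((IsLocalRing.maximalIdeal.isMaximal _).eq_of_le hPp.ne_top h2).symm
    haveI : P.IsMaximal := h3 ▸ IsLocalRing.maximalIdeal.isMaximal _
    letI : Field (Cpl D ⧸ P) := Ideal.Quotient.field P
    have h4 : ringKrullDim (Cpl D ⧸ P) = 0 := ringKrullDim_eq_zero_of_field _
    rw [hdim] at h4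
    exact one_ne_zero h4
  obtain ⟨s, a, ha⟩ := (Submodule.fg_iff_exists_fin_generating_family).mp
    (IsNoetherian.noetherian I)
  have haI : ∀ j, a j ∈ I := fun j => ha ▸ Submodule.subset_span ⟨j, rfl⟩
  have hdec : ∀ j, ∃ p ∈ P, ∃ α ∈ otherMin P, p + α = algebraMap D (Cpl D) (a j) := by
    intro j
    have h : algebraMap D (Cpl D) (a j) ∈ P ⊔ otherMin P := haI j
    exact Submodule.mem_sup.mp h
  choose p hp α hα hpα using hdec
  -- the valuation ring
  obtain ⟨V, hV, hVloc⟩ := IsLocalRing.exists_factor_valuationRing (fL (D := D) P).toRingHom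
  have hex : ∃ j, a j ≠ 0 := by
    by_contra hcon
    push_neg at hcon
    apply hIne
    rw [← ha, Submodule.span_eq_bot]
    rintro x ⟨j, rfl⟩
    exact hcon j
  have hfa : ∀ j, a j ≠ 0 → fL (D := D) P (algebraMap D (Cpl D) (a j)) ≠ 0 := by
    intro j hj h
    rw [fL_eq_zero_iff] at h
    have : a j ∈ P.comap (algebraMap D (Cpl D)) := h
    rw [hPD] at this
    exact hj this
  haveI : Nonempty (Fin s) := ⟨hex.choose⟩
  obtain ⟨j0, -, hj0⟩ := Finset.exists_max_image Finset.univ
    (fun j => V.valuation (fL (D := D) P (algebraMap D (Cpl D) (a j)))) Finset.univ_nonempty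
  have hfj0 : fL (D := D) P (algebraMap D (Cpl D) (a j0)) ≠ 0 := by
    obtain ⟨j, hj⟩ := hex
    have h1 := hj0 j (Finset.mem_univ _)
    intro h0
    rw [h0, map_zero] at h1
    exact hfa j hj ((Valuation.zero_iff _).mp (le_zero_iff.mp h1))
  have haj0 : a j0 ≠ 0 := fun h => hfj0 (by rw [h, map_zero, map_zero])
  refine ⟨s, a, j0, haj0, ?_⟩
  haveI : Algebra.FiniteType D (chartSub a j0) := chart_finiteType a j0
  have hinjDL : Function.Injective (algebraMap D (FractionRing (Cpl D ⧸ P))) := by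
    rw [injective_iff_map_eq_zero]
    intro x hx
    rw [← (fL (D := D) P).commutes, fL_eq_zero_iff] at hx
    have : x ∈ P.comap (algebraMap D (Cpl D)) := hx
    rw [hPD] at this
    exact this
  set ι : chartSub a j0 →ₐ[D] FractionRing (Cpl D ⧸ P) := chartι a j0 hinjDL with hι
  have hιV : ∀ b : chartSub a j0, ι b ∈ V.toSubring := by
    apply chartι_mem a j0 haj0 hinjDL V.toSubring
    · intro d
      rw [← (fL (D := D) P).commutes]
      exact hV _
    · intro j
      rw [← (fL (D := D) P).commutes, ← (fL (D := D) P).commutes]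
      change _ ∈ V
      rw [← ValuationSubring.valuation_le_one_iff, map_div₀, div_le_one₀]
      · exact hj0 j (Finset.mem_univ _)
      · exact zero_lt_iff.mpr ((Valuation.ne_zero_iff _).mpr hfj0)
  -- coefficients
  have hspan : c = Ideal.span (Set.range (fun j => algebraMap D (Cpl D) (a j))) := by
    rw [← hIc, ← ha]
    change Ideal.map _ (Ideal.span (Set.range a)) = _
    rw [Ideal.map_span, ← Set.range_comp]
    rfl
  have hpc : p j0 ∈ Ideal.span (Set.range (fun j => algebraMap D (Cpl D) (a j))) :=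
    hspan ▸ (le_sup_left (a := P) (b := otherMin P) (hp j0))
  have hαc : α j0 ∈ Ideal.span (Set.range (fun j => algebraMap D (Cpl D) (a j))) :=
    hspan ▸ (le_sup_right (a := P) (b := otherMin P) (hα j0))
  obtain ⟨cp, hcp⟩ := Ideal.mem_span_range_iff_exists_fun.mp hpc
  obtain ⟨cα, hcα⟩ := Ideal.mem_span_range_iff_exists_fun.mp hαc
  have key : ∀ (cc : Fin s → Cpl D),
      ((algebraMap D (chartSub a j0) (a j0)) ⊗ₜ[D] (1 : Cpl D)) *
        (∑ j, (gB a j0 j) ⊗ₜ[D] (cc j)) =
      (1 : chartSub a j0) ⊗ₜ[D] (∑ j, cc j * algebraMap D (Cpl D) (a j)) := by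
    intro cc
    rw [Finset.mul_sum, TensorProduct.tmul_sum]
    refine Finset.sum_congr rfl (fun j _ => ?_)
    rw [Algebra.TensorProduct.tmul_mul_tmul, one_mul, a0_mul_gB a j0 haj0, algebraMap_tmul,
      Algebra.smul_def, mul_comm]
  have hπ := key cp
  have hπ' := key cα
  rw [hcp] at hπ
  rw [hcα] at hπ'
  have hclear := chart_clear a j0 haj0
  have hp0 : fL (D := D) P (p j0) = 0 := (fL_eq_zero_iff P _).mpr (hp j0)
  have hnil : ∀ p' : Cpl D, fL (D := D) P p' = 0 → IsNilpotent (p' * α j0) := by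
    intro p' hp'
    have h1 : p' ∈ P := (fL_eq_zero_iff P _).mp hp'
    have h2 : p' * α j0 ∈ P ⊓ otherMin P :=
      ⟨P.mul_mem_right _ h1, (otherMin P).mul_mem_left _ (hα j0)⟩
    exact mem_nilradical.mp (inf_otherMin_le_nilradical hP h2)
  have hB0 : algebraMap D (chartSub a j0) (a j0) ≠ 0 := by
    rw [Ne, map_eq_zero_iff _ (chart_algebraMap_injective a j0)]
    exact haj0
  -- the map to the valuation ring and the prime `N₁`
  have hΦV : ∀ z : (chartSub a j0) ⊗[D] Cpl D, Phi ι (fL (D := D) P) z ∈ V.toSubring := by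
    intro z
    induction z using TensorProduct.induction_on with
    | zero => rw [map_zero]; exact V.toSubring.zero_mem
    | tmul b r => rw [Phi_tmul]; exact V.toSubring.mul_mem (hιV b) (hV r)
    | add x y hx hy => rw [map_add]; exact V.toSubring.add_mem hx hy
  set N₁ : Ideal ((chartSub a j0) ⊗[D] Cpl D) :=
    (maximalIdeal V).comap ((Phi ι (fL (D := D) P)).toRingHom.codRestrict V.toSubring hΦV) with hN₁
  haveI hN₁p : N₁.IsPrime := Ideal.comap_isPrime _ _
  have hkerN₁ : RingHom.ker (Phi ι (fL (D := D) P)) ≤ N₁ := by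
    intro z hz
    rw [hN₁, Ideal.mem_comap]
    have : (Phi ι (fL (D := D) P)).toRingHom.codRestrict V.toSubring hΦV z = 0 := by
      apply Subtype.ext
      exact hz
    rw [this]
    exact Ideal.zero_mem _
  have hπN₁ : (∑ j, (gB a j0 j) ⊗ₜ[D] (cp j)) ∈ N₁ :=
    hkerN₁ (RingHom.mem_ker.mpr (Phi_pi hp0 hfj0 hπ))
  have hmN₁ : (maximalIdeal (Cpl D)).map
      (algebraMap (Cpl D) ((chartSub a j0) ⊗[D] Cpl D)) ≤ N₁ := by
    rw [Ideal.map_le_iff_le_comap]
    intro r hr
    rw [Ideal.mem_comap, hN₁, Ideal.mem_comap, mem_maximalIdeal, mem_nonunits_iff]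
    intro hu
    have h1 : (Phi ι (fL (D := D) P)).toRingHom.codRestrict V.toSubring hΦV
        (algebraMap (Cpl D) ((chartSub a j0) ⊗[D] Cpl D) r) =
        (fL (D := D) P).toRingHom.codRestrict V.toSubring hV r := by
      apply Subtype.ext
      change Phi ι (fL (D := D) P) ((1 : chartSub a j0) ⊗ₜ[D] r) = fL (D := D) P r
      rw [Phi_tmul, map_one, one_mul]
    rw [h1] at hu
    exact hr (hVloc.map_nonunit r hu)
  obtain ⟨N, hNmax, hN₁N⟩ := Ideal.exists_le_maximal N₁ hN₁p.ne_top
  haveI := hNmax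
  haveI hNp : N.IsPrime := hNmax.isPrime
  refine ⟨N, hNmax, ?_, hmN₁.trans hN₁N⟩
  have hq := height_map_le_one P ι hdim.le N (hkerN₁.trans hN₁N) (hmN₁.trans hN₁N)
  exact height_le_one hclear hp0 (hpα j0) hnil hB0 hπ hπ' N (hN₁N hπN₁) hq

/-- From a chart with a maximal ideal of height at most one over the closed point, the dimension
formula gives `dim D ≤ 1`. -/
theorem height_maximalIdeal_le_one_of_chart (hUC : CAlg.IsUniversallyCatenary D)
    {s : ℕ} (a : Fin s → D) (j0 : Fin s) (haj0 : a j0 ≠ 0)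
    (N : Ideal ((chartSub a j0) ⊗[D] Cpl D)) [hNmax : N.IsMaximal]
    (hN1 : Ideal.height (R := (chartSub a j0) ⊗[D] Cpl D) N ≤ 1)
    (hmN : (maximalIdeal (Cpl D)).map
      (algebraMap (Cpl D) ((chartSub a j0) ⊗[D] Cpl D)) ≤ N) :
    (maximalIdeal D).height ≤ 1 := by
  haveI : IsNoetherianRing (Cpl D) := ComplEtale.isNoetherianRing_completion D
  haveI : Algebra.FiniteType D (chartSub a j0) := chart_finiteType a j0
  haveI : Algebra.FiniteType (Cpl D) ((chartSub a j0) ⊗[D] Cpl D) := finiteType_tensor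
  haveI : IsNoetherianRing ((chartSub a j0) ⊗[D] Cpl D) :=
    Algebra.FiniteType.isNoetherianRing (Cpl D) ((chartSub a j0) ⊗[D] Cpl D)
  haveI : IsNoetherianRing (chartSub a j0) := Algebra.FiniteType.isNoetherianRing D _
  haveI hNp : N.IsPrime := hNmax.isPrime
  set n : Ideal (chartSub a j0) :=
    N.comap (algebraMap (chartSub a j0) ((chartSub a j0) ⊗[D] Cpl D)) with hn
  haveI hnp : n.IsPrime := Ideal.comap_isPrime _ _
  haveI hlo : N.LiesOver n := ⟨rfl⟩
  -- going down
  have hgd := Ideal.height_eq_height_add_of_liesOver_of_hasGoingDown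
    (R := chartSub a j0) (S := (chartSub a j0) ⊗[D] Cpl D) n N
  have hn1 : n.height ≤ 1 := by
    refine le_trans ?_ hN1
    rw [hgd]
    exact le_self_add
  -- `n` is maximal
  have hres : ∀ y : Cpl D, ∃ d : D, y - algebraMap D (Cpl D) d ∈ maximalIdeal (Cpl D) :=
    Groth.Agent.Lib.Helper14.ComplQuot.exists_sub_mem_maximalIdeal D
  haveI hnmax : n.IsMaximal := by
    rw [Ideal.isMaximal_iff]
    refine ⟨fun h => hnp.ne_top ((Ideal.eq_top_iff_one n).mpr h), ?_⟩
    intro J b hnJ hbn hbJ
    have hbN : algebraMap (chartSub a j0) ((chartSub a j0) ⊗[D] Cpl D) b ∉ N := hbn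
    obtain ⟨y, i, hi, hyi⟩ := hNmax.exists_inv hbN
    obtain ⟨b', hb'⟩ := Groth.Agent.Lib.Helper27.BrCpl.exists_sub_tmul_one_mem D (Cpl D)
      (chartSub a j0) hres y
    have h1 : (b' * b - 1) ∈ n := by
      rw [hn, Ideal.mem_comap, map_sub, map_mul, map_one]
      change (b' ⊗ₜ[D] (1 : Cpl D)) *
          algebraMap (chartSub a j0) ((chartSub a j0) ⊗[D] Cpl D) b - 1 ∈ N
      exact mul_sub_one_mem_aux (T := (chartSub a j0) ⊗[D] Cpl D) N y (b' ⊗ₜ[D] (1 : Cpl D))
        (algebraMap (chartSub a j0) ((chartSub a j0) ⊗[D] Cpl D) b) i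
        (N.mul_mem_right _ (hmN hb')) hi hyi
    have h2 : b' * b - 1 ∈ J := hnJ h1
    have h3 : b' * b ∈ J := J.mul_mem_left _ hbJ
    have : (1 : chartSub a j0) = b' * b - (b' * b - 1) := by ring
    rw [this]
    exact J.sub_mem h3 h2
  -- `n` lies over the maximal ideal
  haveI hlo2 : n.LiesOver (maximalIdeal D) := by
    refine ⟨?_⟩
    have hle : maximalIdeal D ≤ n.comap (algebraMap D (chartSub a j0)) := by
      intro d hd
      rw [Ideal.mem_comap, hn, Ideal.mem_comap]
      have e : algebraMap (chartSub a j0) ((chartSub a j0) ⊗[D] Cpl D)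
          (algebraMap D (chartSub a j0) d) =
          algebraMap (Cpl D) ((chartSub a j0) ⊗[D] Cpl D) (algebraMap D (Cpl D) d) := by
        change (algebraMap D (chartSub a j0) d) ⊗ₜ[D] (1 : Cpl D) =
          (1 : chartSub a j0) ⊗ₜ[D] (algebraMap D (Cpl D) d)
        rw [algebraMap_tmul, Algebra.algebraMap_eq_smul_one]
      rw [e]
      apply hmN
      apply Ideal.mem_map_of_mem
      rw [AdicCompletion.maximalIdeal_eq_map (R := D)]
      exact Ideal.mem_map_of_mem _ hd
    exact (IsLocalRing.maximalIdeal.isMaximal D).eq_of_le (Ideal.comap_isPrime _ _).ne_top hle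
  -- residue field extension is algebraic
  letI : Field (chartSub a j0 ⧸ n) := Ideal.Quotient.field n
  letI : Field (D ⧸ maximalIdeal D) := Ideal.Quotient.field _
  haveI : Algebra.FiniteType (D ⧸ maximalIdeal D) (chartSub a j0 ⧸ n) :=
    Algebra.FiniteType.of_restrictScalars_finiteType D (D ⧸ maximalIdeal D) (chartSub a j0 ⧸ n)
  haveI : Module.Finite (D ⧸ maximalIdeal D) (chartSub a j0 ⧸ n) :=
    finite_of_finite_type_of_isJacobsonRing _ _
  haveI : Algebra.IsAlgebraic (D ⧸ maximalIdeal D) (chartSub a j0 ⧸ n) :=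
    Algebra.IsAlgebraic.of_finite _ _
  haveI : Algebra.IsAlgebraic D (chartSub a j0) := chart_isAlgebraic a j0
  have h := Groth.Agent.S0555.result D hUC (chartSub a j0) (maximalIdeal D) n
  rw [_root_.trdeg_eq_zero, _root_.trdeg_eq_zero, add_zero, add_zero] at h
  have h5 : n.height = (maximalIdeal D).height := Cardinal.ofENat_inj.mp h
  rw [← h5]
  exact hn1

/-- **Ratliff, depth-one case.** -/
theorem height_maximalIdeal_le_one_of_depthOne (hUC : CAlg.IsUniversallyCatenary D)
    (P : Ideal (Cpl D)) (hP : P ∈ minimalPrimes (Cpl D)) (hdim : ringKrullDim (Cpl D ⧸ P) = 1) :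
    (maximalIdeal D).height ≤ 1 := by
  obtain ⟨s, a, j0, haj0, N, hNmax, hN1, hmN⟩ := exists_chart_of_depthOne D P hP hdim
  haveI := hNmax
  exact height_maximalIdeal_le_one_of_chart D hUC a j0 haj0 N hN1 hmN

end

end Groth.Agent.Lib.Helper14.Ratliff
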