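import Mathlib
import Groth.Prelude.Def_EGA4b
import Groth.Agent.Lib.Helper14.CatenaryDim
import Groth.Agent.Lib.Helper14.FormalEquidim
import Groth.Agent.Lib.Helper14.FEChain1

/-!
# Auxiliary dimension lemmas for Ratliff's theorem (helper14)
-/

set_option autoImplicit false
universe u

namespace Groth.Agent.Lib.Helper14.Ratliff

open IsLocalRing Order

/-- In a nontrivial ring of finite Krull dimension some minimal prime computes the dimension. -/
theorem exists_minimalPrimes_dim_eq (S : Type u) [CommRing S] [Nontrivial S]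
    (hfin : ringKrullDim S < ⊤) :
    ∃ q ∈ minimalPrimes S, ringKrullDim (S ⧸ q) = ringKrullDim S := by
  have h1 : ringKrullDim S = ↑(⨆ a : PrimeSpectrum S, coheight a) :=
    krullDim_eq_iSup_coheight_of_nonempty
  have h2 : (⨆ a : PrimeSpectrum S, coheight a) < ⊤ := by
    rw [h1] at hfin
    exact WithBot.coe_lt_coe.mp hfin
  obtain ⟨p, hp⟩ := ENat.exists_eq_iSup_of_lt_top h2
  obtain ⟨q, hq, hqp⟩ := Ideal.exists_minimalPrimes_le (bot_le : (⊥ : Ideal S) ≤ p.asIdeal)
  haveI : q.IsPrime := hq.1.1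
  refine ⟨q, hq, ?_⟩
  have h3 := Groth.Agent.Lib.Helper14.ringKrullDim_quotient_eq_coheight (⟨q, inferInstance⟩ :
    PrimeSpectrum S)
  change ringKrullDim (S ⧸ q) = _ at h3
  apply le_antisymm (ringKrullDim_quotient_le q)
  rw [h3, h1]
  have h4 : coheight p ≤ coheight (⟨q, inferInstance⟩ : PrimeSpectrum S) :=
    coheight_anti (show (⟨q, inferInstance⟩ : PrimeSpectrum S) ≤ p from hqp)
  rw [← hp]
  exact_mod_cast h4

/-- In a Noetherian local domain `C` of dimension `e + 1`, a nonzero element `x` of the maximal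
ideal lies in a height-one prime `Q` with `dim C/Q = e`. -/
theorem exists_prime_dim_pred (C : Type u) [CommRing C] [IsDomain C] [IsNoetherianRing C]
    [IsLocalRing C] (e : ℕ) (hdim : ringKrullDim C = (e : ℕ) + 1) (x : C) (hx0 : x ≠ 0)
    (hxm : x ∈ maximalIdeal C) :
    ∃ Q : Ideal C, Q.IsPrime ∧ x ∈ Q ∧ Q.height = 1 ∧ ringKrullDim (C ⧸ Q) = e := by
  have hreg : x ∈ nonZeroDivisors C := mem_nonZeroDivisors_of_ne_zero hx0
  have h1 := ringKrullDim_quotient_span_singleton_succ_eq_ringKrullDim_of_mem_nonZeroDivisors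
    hreg hxm
  rw [hdim] at h1
  have h2 : ringKrullDim (C ⧸ Ideal.span {x}) = e :=
    Groth.Agent.Lib.Helper14.FEChain1.withBot_add_right_cancel (F := 1) (by decide)
      (by decide) h1
  haveI : Nontrivial (C ⧸ Ideal.span {x}) := by
    rw [Ideal.Quotient.nontrivial_iff]
    intro h
    rw [Ideal.span_singleton_eq_top] at h
    exact hxm h
  have hfin : ringKrullDim (C ⧸ Ideal.span {x}) < ⊤ := by
    rw [h2]; exact WithBot.coe_lt_coe.mpr (ENat.coe_lt_top e)
  obtain ⟨q, hq, hqdim⟩ := exists_minimalPrimes_dim_eq (C ⧸ Ideal.span {x}) hfin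
  haveI : q.IsPrime := hq.1.1
  set Q := q.comap (Ideal.Quotient.mk (Ideal.span {x})) with hQ
  haveI hQp : Q.IsPrime := Ideal.comap_isPrime _ _
  have hQmin : Q ∈ (Ideal.span {x}).minimalPrimes := by
    have := Ideal.comap_minimalPrimes_eq_of_surjective
      (Ideal.Quotient.mk_surjective (I := Ideal.span {x})) (⊥ : Ideal (C ⧸ Ideal.span {x}))
    rw [← RingHom.ker_eq_comap_bot, Ideal.mk_ker] at this
    rw [this]
    exact ⟨q, hq, rfl⟩
  have hxQ : x ∈ Q := hQmin.1.2 (Ideal.mem_span_singleton_self x)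
  have hht1 : Q.height ≤ 1 :=
    Ideal.height_le_one_of_isPrincipal_of_mem_minimalPrimes (Ideal.span {x}) Q hQmin
  have hht0 : Q.height ≠ 0 := by
    intro h
    rw [Ideal.height_eq_zero_iff_eq_bot] at h
    rw [h] at hxQ
    exact hx0 hxQ
  have hht : Q.height = 1 := le_antisymm hht1 (Order.one_le_iff_pos.mpr (pos_iff_ne_zero.mpr hht0))
  refine ⟨Q, hQp, hxQ, hht, ?_⟩
  have e1 := Groth.Agent.Lib.Helper14.FormalEquidim.quotComapEquiv
    (Ideal.Quotient.mk (Ideal.span {x})) Ideal.Quotient.mk_surjective q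
  rw [ringKrullDim_eq_of_ringEquiv e1, hqdim, h2]

end Groth.Agent.Lib.Helper14.Ratliff
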