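import Mathlib
import Groth.Prelude.Def_EGA4b
import Groth.Prelude.Def_Found
import Groth.Agent.Lib.Helper14.Ratliff.DimAux
import Groth.Agent.Lib.Helper14.Ratliff.Prep
import Groth.Agent.Lib.Helper14.FormalEquidim
import Groth.Agent.Lib.Helper14.ComplEtale

/-!
# Ratliff's theorem: the induction step (helper14)
-/

set_option autoImplicit false
set_option maxHeartbeats 1000000
universe u

namespace Groth.Agent.Lib.Helper14.Ratliff

open IsLocalRing EGA4 Groth.Agent.Lib.Helper14.ComplFlat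

section

variable (D : Type u) [CommRing D] [IsDomain D] [IsNoetherianRing D] [IsLocalRing D]

/-- primes between `P` and `Q` when `Q/P` has height one. -/
theorem eq_or_eq_of_between {R : Type u} [CommRing R] (P Q : Ideal R) [P.IsPrime] [Q.IsPrime]
    (hPQ : P ≤ Q) (hht : (Q.map (Ideal.Quotient.mk P)).height = 1)
    (q : Ideal R) [q.IsPrime] (hPq : P ≤ q) (hqQ : q ≤ Q) : q = P ∨ q = Q := by
  haveI : IsDomain (R ⧸ P) := Ideal.Quotient.isDomain P
  haveI hQb : (Q.map (Ideal.Quotient.mk P)).IsPrime :=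
    Ideal.map_isPrime_of_surjective Ideal.Quotient.mk_surjective (by rwa [Ideal.mk_ker])
  haveI hqb : (q.map (Ideal.Quotient.mk P)).IsPrime :=
    Ideal.map_isPrime_of_surjective Ideal.Quotient.mk_surjective (by rwa [Ideal.mk_ker])
  have hcm : ∀ J : Ideal R, P ≤ J → (J.map (Ideal.Quotient.mk P)).comap (Ideal.Quotient.mk P) = J := by
    intro J hJ
    rw [Ideal.comap_map_of_surjective _ Ideal.Quotient.mk_surjective, ← RingHom.ker_eq_comap_bot,
      Ideal.mk_ker, sup_eq_left.mpr hJ]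
  have hle : q.map (Ideal.Quotient.mk P) ≤ Q.map (Ideal.Quotient.mk P) := Ideal.map_mono hqQ
  rcases hle.lt_or_eq with hlt | heq
  · left
    haveI : (Q.map (Ideal.Quotient.mk P)).FiniteHeight :=
      ⟨Or.inr (by rw [hht]; exact ENat.one_ne_top)⟩
    haveI : (q.map (Ideal.Quotient.mk P)).FiniteHeight :=
      ⟨Or.inr (ne_top_of_le_ne_top (by rw [hht]; exact ENat.one_ne_top) (Ideal.height_mono hle))⟩
    have h1 := Ideal.height_strict_mono_of_isPrime_of_isPrime hlt
    rw [hht] at h1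
    have h2 : (q.map (Ideal.Quotient.mk P)).height = 0 := Order.lt_one_iff.mp h1
    rw [Ideal.height_eq_zero_iff_eq_bot, Ideal.map_eq_bot_iff_le_ker, Ideal.mk_ker] at h2
    exact le_antisymm h2 hPq
  · right
    rw [← hcm q hPq, ← hcm Q hPQ, heq]

theorem exists_quotient_of_depth (e : ℕ) (P : Ideal (Cpl D)) (hP : P ∈ minimalPrimes (Cpl D))
    (hdim : ringKrullDim (Cpl D ⧸ P) = ((e + 1 : ℕ) : ℕ∞) + 1) :
    ∃ (𝔭 : Ideal D) (_ : 𝔭.IsPrime), 𝔭.height = 1 ∧
      ∃ Q₁ ∈ minimalPrimes (Cpl (D ⧸ 𝔭)), ringKrullDim (Cpl (D ⧸ 𝔭) ⧸ Q₁) = ((e + 1 : ℕ) : ℕ∞) := by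
  haveI : IsNoetherianRing (Cpl D) := ComplEtale.isNoetherianRing_completion D
  haveI hPp : P.IsPrime := hP.1.1
  haveI : Module.FaithfullyFlat D (Cpl D) := Module.FaithfullyFlat.of_flat_of_isLocalHom
  have hPD : P.comap (algebraMap D (Cpl D)) = ⊥ := by
    have := FormalEquidim.comap_mem_minimalPrimes (R := D) hP
    rw [IsDomain.minimalPrimes_eq_singleton_bot] at this
    exact this
  haveI : IsDomain (Cpl D ⧸ P) := Ideal.Quotient.isDomain P
  haveI : IsLocalRing (Cpl D ⧸ P) :=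
    IsLocalRing.of_surjective' (Ideal.Quotient.mk P) Ideal.Quotient.mk_surjective
  -- `m_D ≠ 0`
  have hmD : maximalIdeal D ≠ ⊥ := by
    intro h
    have h1 : ringKrullDim D = 0 := by
      rw [← IsLocalRing.maximalIdeal_height_eq_ringKrullDim, h, Ideal.height_bot]; rfl
    have h2 : ringKrullDim (Cpl D ⧸ P) ≤ ringKrullDim (Cpl D) := ringKrullDim_quotient_le P
    rw [FormalEquidim.ringKrullDim_cpl, h1, hdim] at h2
    have : (((e + 1 : ℕ) : ℕ∞) + 1 : ℕ∞) ≤ 0 := by exact_mod_cast h2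
    simp at this
  -- the finite set of bad primes
  set Tset : Set (Ideal (Cpl D)) := {Q' | Q'.IsPrime ∧ Q' ≠ maximalIdeal (Cpl D) ∧
    ∃ P' ∈ minimalPrimes (Cpl D), P' ≠ P ∧ Q' ∈ (P ⊔ P').minimalPrimes} with hTset
  have hTfin : Tset.Finite := by
    have hU : (⋃ P' ∈ minimalPrimes (Cpl D), (P ⊔ P').minimalPrimes).Finite :=
      Set.Finite.biUnion (minimalPrimes.finite_of_isNoetherianRing (Cpl D))
        (fun P' _ => Ideal.finite_minimalPrimes_of_isNoetherianRing (Cpl D) (P ⊔ P'))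
    refine hU.subset ?_
    rintro Q' ⟨-, -, P', hP', -, hQ'⟩
    exact Set.mem_biUnion hP' hQ'
  -- prime avoidance
  have havoid : ∃ x ∈ maximalIdeal D, x ∉ P.comap (algebraMap D (Cpl D)) ∧
      ∀ Q' ∈ Tset, x ∉ Q'.comap (algebraMap D (Cpl D)) := by
    by_contra hcon
    push Not at hcon
    have hsub : ((maximalIdeal D : Ideal D) : Set D) ⊆
        ⋃ i ∈ ((insert P hTfin.toFinset : Finset (Ideal (Cpl D))) : Set (Ideal (Cpl D))),
          ((i.comap (algebraMap D (Cpl D)) : Ideal D) : Set D) := by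
      intro x hx
      by_cases hxP : x ∈ P.comap (algebraMap D (Cpl D))
      · exact Set.mem_biUnion (by simp) hxP
      · obtain ⟨Q', hQ', hxQ'⟩ := hcon x hx hxP
        exact Set.mem_biUnion (by simp [hQ']) hxQ'
    rw [Ideal.subset_union_prime P P] at hsub
    · obtain ⟨i, hi, hle⟩ := hsub
      rw [Finset.mem_insert, Set.Finite.mem_toFinset] at hi
      rcases hi with rfl | hi
      · rw [hPD] at hle
        exact hmD (le_bot_iff.mp hle)
      · obtain ⟨hip, hine, -⟩ := hi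
        have h1 : maximalIdeal (Cpl D) ≤ i := by
          rw [AdicCompletion.maximalIdeal_eq_map (R := D), Ideal.map_le_iff_le_comap]
          exact hle
        exact hine ((IsLocalRing.maximalIdeal.isMaximal _).eq_of_le hip.ne_top h1).symm
    · intro i hi _ _
      rw [Finset.mem_insert, Set.Finite.mem_toFinset] at hi
      rcases hi with rfl | hi
      · exact Ideal.comap_isPrime _ _
      · haveI := hi.1
        exact Ideal.comap_isPrime _ _
  obtain ⟨x, hxm, hxP, hxT⟩ := havoid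
  -- the prime `Q`
  have hx0 : Ideal.Quotient.mk P (algebraMap D (Cpl D) x) ≠ 0 := by
    rw [Ne, Ideal.Quotient.eq_zero_iff_mem]; exact hxP
  have hxmC : Ideal.Quotient.mk P (algebraMap D (Cpl D) x) ∈ maximalIdeal (Cpl D ⧸ P) := by
    rw [mem_maximalIdeal, mem_nonunits_iff]
    intro hu
    have h1 : algebraMap D (Cpl D) x ∈ maximalIdeal (Cpl D) := by
      rw [AdicCompletion.maximalIdeal_eq_map (R := D)]
      exact Ideal.mem_map_of_mem _ hxm
    haveI : IsLocalHom (Ideal.Quotient.mk P) :=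
      IsLocalHom.of_surjective _ Ideal.Quotient.mk_surjective
    have h2 : IsUnit (algebraMap D (Cpl D) x) := isUnit_of_map_unit (Ideal.Quotient.mk P) _ hu
    exact h1 h2
  obtain ⟨Qb, hQbp, hxQb, hQbht, hQbdim⟩ := exists_prime_dim_pred (Cpl D ⧸ P) (e + 1)
    (by rw [hdim]; rfl) _ hx0 hxmC
  haveI := hQbp
  set Q := Qb.comap (Ideal.Quotient.mk P) with hQ
  haveI hQp : Q.IsPrime := Ideal.comap_isPrime _ _
  have hPQ : P ≤ Q := by
    intro y hy
    rw [hQ, Ideal.mem_comap, Ideal.Quotient.eq_zero_iff_mem.mpr hy]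
    exact Qb.zero_mem
  have hxQ : algebraMap D (Cpl D) x ∈ Q := hxQb
  have hQmap : Q.map (Ideal.Quotient.mk P) = Qb :=
    Ideal.map_comap_of_surjective _ Ideal.Quotient.mk_surjective _
  have hQdim : ringKrullDim (Cpl D ⧸ Q) = ((e + 1 : ℕ) : ℕ∞) := by
    have e0 := FormalEquidim.quotComapEquiv (Ideal.Quotient.mk P)
      Ideal.Quotient.mk_surjective Qb
    exact (ringKrullDim_eq_of_ringEquiv e0).trans hQbdim
  have hQne : Q ≠ maximalIdeal (Cpl D) := by
    intro h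
    haveI : Q.IsMaximal := h ▸ IsLocalRing.maximalIdeal.isMaximal _
    letI : Field (Cpl D ⧸ Q) := Ideal.Quotient.field Q
    have h4 : ringKrullDim (Cpl D ⧸ Q) = 0 := ringKrullDim_eq_zero_of_field _
    rw [hQdim] at h4
    have : ((e + 1 : ℕ) : ℕ∞) = 0 := by exact_mod_cast h4
    simp at this
  have hbetween := eq_or_eq_of_between P Q hPQ (by rw [hQmap]; exact hQbht)
  have hPneQ : P ≠ Q := fun h => hxP (h ▸ hxQ)
  -- `Q` contains no other minimal prime
  have honly : ∀ P' ∈ minimalPrimes (Cpl D), P' ≤ Q → P' = P := by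
    intro P' hP' hP'Q
    by_contra hne
    haveI : P'.IsPrime := hP'.1.1
    obtain ⟨Q', hQ', hQ'Q⟩ := Ideal.exists_minimalPrimes_le (sup_le hPQ hP'Q)
    haveI : Q'.IsPrime := hQ'.1.1
    have hPQ' : P ≤ Q' := le_sup_left.trans hQ'.1.2
    have hP'Q' : P' ≤ Q' := le_sup_right.trans hQ'.1.2
    rcases hbetween Q' hPQ' hQ'Q with h | h
    · rw [h] at hP'Q'
      exact hne (le_antisymm hP'Q' (hP.2 hP'.1 hP'Q'))
    · have : Q ∈ Tset := ⟨hQp, hQne, P', hP', hne, h ▸ hQ'⟩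
      exact hxT Q this hxQ
  -- `ht Q = 1`
  have hQht : Q.height = 1 := by
    apply le_antisymm
    · have : Q.height ≤ ((1 : ℕ) : ℕ∞) := by
        rw [Ideal.height_le_iff]
        intro q hqp hqQ
        haveI := hqp
        obtain ⟨P'', hP'', hP''q⟩ := Ideal.exists_minimalPrimes_le (bot_le : (⊥ : Ideal (Cpl D)) ≤ q)
        have h1 : P'' = P := honly P'' hP'' (hP''q.trans hqQ.le)
        rw [h1] at hP''q
        rcases hbetween q hP''q hqQ.le with h | h
        · rw [h, Ideal.height_eq_zero_iff.mpr hP]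
          exact_mod_cast zero_lt_one
        · exact absurd h hqQ.ne
      exact_mod_cast this
    · rw [Order.one_le_iff_pos, pos_iff_ne_zero, Ne, Ideal.height_eq_zero_iff]
      intro hQmin
      exact hPneQ (le_antisymm hPQ (hQmin.2 hP.1 hPQ))
  -- the contraction
  set 𝔭 := Q.comap (algebraMap D (Cpl D)) with h𝔭
  haveI h𝔭p : 𝔭.IsPrime := Ideal.comap_isPrime _ _
  have hx𝔭 : x ∈ 𝔭 := hxQ
  have hx0' : x ≠ 0 := by
    intro h
    apply hxP
    rw [h]
    exact Ideal.zero_mem _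
  have h𝔭ne : 𝔭 ≠ ⊥ := fun h => hx0' (by rw [h] at hx𝔭; exact hx𝔭)
  haveI hlo : Q.LiesOver 𝔭 := ⟨rfl⟩
  have hgd := Ideal.height_eq_height_add_of_liesOver_of_hasGoingDown 𝔭 Q
  have h𝔭ht : 𝔭.height = 1 := by
    apply le_antisymm
    · rw [← hQht, hgd]; exact le_self_add
    · rw [Order.one_le_iff_pos, pos_iff_ne_zero, Ne, Ideal.height_eq_zero_iff_eq_bot]
      exact h𝔭ne
  refine ⟨𝔭, h𝔭p, h𝔭ht, ?_⟩
  -- `Q` is minimal over `𝔭 D̂`
  have hQmin : Q ∈ (𝔭.map (algebraMap D (Cpl D))).minimalPrimes := by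
    refine ⟨⟨hQp, Ideal.map_comap_le⟩, ?_⟩
    rintro q ⟨hqp, h𝔭q⟩ hqQ
    haveI := hqp
    by_contra hnot
    have hlt : q < Q := lt_of_le_of_ne hqQ (fun h => hnot (h ▸ le_refl _))
    have h1 := Ideal.height_strict_mono_of_isPrime_of_isPrime hlt
    rw [hQht] at h1
    have h2 : q.height = 0 := Order.lt_one_iff.mp h1
    rw [Ideal.height_eq_zero_iff] at h2
    have h3 := FormalEquidim.comap_mem_minimalPrimes (R := D) h2
    rw [IsDomain.minimalPrimes_eq_singleton_bot] at h3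
    have h4 : 𝔭 ≤ q.comap (algebraMap D (Cpl D)) := Ideal.map_le_iff_le_comap.mp h𝔭q
    rw [h3] at h4
    exact h𝔭ne (le_bot_iff.mp h4)
  haveI : Nontrivial (D ⧸ 𝔭) := Ideal.Quotient.nontrivial_iff.mpr h𝔭p.ne_top
  rw [FormalEquidim.minimalPrimes_map_eq D 𝔭] at hQmin
  obtain ⟨Q₁, hQ₁, hQ₁Q⟩ := hQmin
  refine ⟨Q₁, hQ₁, ?_⟩
  have e1 := FormalEquidim.quotComapEquiv (cplMap D (D ⧸ 𝔭))
    (Groth.Agent.Lib.Helper14.ComplQuot.cplMap_surjective D 𝔭) Q₁
  rw [← ringKrullDim_eq_of_ringEquiv e1, hQ₁Q, hQdim]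

end

end Groth.Agent.Lib.Helper14.Ratliff
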