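import Mathlib
import Groth.Prelude.Def_EGA4b
import Groth.Prelude.Def_Found
import Groth.Agent.Lib.Helper14.Ratliff.Step
import Groth.Agent.Lib.Helper14.Ratliff.DepthOne
import Groth.Agent.Lib.Helper14.ExcFC.Exc
import Groth.Agent.Lib.Helper4.RkLift
import Groth.Agent.Lib.Helper14.CatenaryDim
import Groth.Agent.Lib.Helper14.FEChain6

/-!
# Ratliff's theorem: a universally catenary Noetherian local ring is formally catenary (helper14)
-/

set_option autoImplicit false
set_option maxHeartbeats 1000000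
universe u

namespace Groth.Agent.Lib.Helper14.Ratliff

open IsLocalRing EGA4 Groth.Agent.Lib.Helper14.ComplFlat

/-- The key induction: if some minimal prime `P` of the completion of a universally catenary
Noetherian local domain `D` has `dim D̂/P = e`, then `dim D = e`. -/
theorem dim_eq_of_minimalPrime (e : ℕ) : ∀ (D : Type u) [CommRing D] [IsDomain D]
    [IsNoetherianRing D] [IsLocalRing D], CAlg.IsUniversallyCatenary D →
    ∀ P ∈ minimalPrimes (Cpl D), ringKrullDim (Cpl D ⧸ P) = ((e : ℕ) : ℕ∞) →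
    ringKrullDim D = ((e : ℕ) : ℕ∞) := by
  induction e with
  | zero =>
    intro D _ _ _ _ hUC P hP hdim
    haveI : IsNoetherianRing (Cpl D) := ComplEtale.isNoetherianRing_completion D
    haveI hPp : P.IsPrime := hP.1.1
    haveI : IsDomain (Cpl D ⧸ P) := Ideal.Quotient.isDomain P
    have hPmax : P = maximalIdeal (Cpl D) := by
      haveI : Ring.KrullDimLE 0 (Cpl D ⧸ P) := by
        rw [Ring.krullDimLE_iff, hdim]; rfl
      haveI : (⊥ : Ideal (Cpl D ⧸ P)).IsMaximal := Ideal.IsPrime.isMaximal' inferInstance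
      have : P.IsMaximal := (Ideal.bot_quotient_isMaximal_iff P).mp this
      exact IsLocalRing.eq_maximalIdeal this
    rw [← FormalEquidim.ringKrullDim_cpl, ← IsLocalRing.maximalIdeal_height_eq_ringKrullDim,
      ← hPmax, Ideal.height_eq_zero_iff.mpr hP]
    rfl
  | succ e ih =>
    intro D _ _ _ _ hUC P hP hdim
    haveI : IsNoetherianRing (Cpl D) := ComplEtale.isNoetherianRing_completion D
    haveI hPp : P.IsPrime := hP.1.1
    rcases Nat.eq_zero_or_pos e with he | he
    · subst he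
      have hdim1 : ringKrullDim (Cpl D ⧸ P) = 1 := by rw [hdim]; rfl
      have h1 := height_maximalIdeal_le_one_of_depthOne D hUC P hP hdim1
      have h2 : ringKrullDim (Cpl D ⧸ P) ≤ ringKrullDim (Cpl D) := ringKrullDim_quotient_le P
      rw [FormalEquidim.ringKrullDim_cpl, hdim1] at h2
      apply le_antisymm
      · rw [← IsLocalRing.maximalIdeal_height_eq_ringKrullDim]
        exact_mod_cast h1
      · exact_mod_cast h2
    · obtain ⟨e', rfl⟩ : ∃ e', e = e' + 1 := ⟨e - 1, by omega⟩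
      have hdim' : ringKrullDim (Cpl D ⧸ P) = ((e' + 1 : ℕ) : ℕ∞) + 1 := by
        rw [hdim]; push_cast; rfl
      obtain ⟨𝔭, h𝔭p, h𝔭ht, Q₁, hQ₁, hQ₁dim⟩ := exists_quotient_of_depth D e' P hP hdim'
      haveI := h𝔭p
      haveI : IsLocalRing (D ⧸ 𝔭) :=
        IsLocalRing.of_surjective' (Ideal.Quotient.mk 𝔭) Ideal.Quotient.mk_surjective
      haveI : IsDomain (D ⧸ 𝔭) := Ideal.Quotient.isDomain 𝔭
      have hUC' : CAlg.IsUniversallyCatenary (D ⧸ 𝔭) :=
        Groth.Agent.Lib.Helper14.ExcFC.isUniversallyCatenary_quotient D hUC 𝔭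
      have h1 := ih (D ⧸ 𝔭) hUC' Q₁ hQ₁ hQ₁dim
      have hcat : CAlg.IsCatenary D := hUC.2 D inferInstance
      have h2 := Groth.Agent.Lib.Helper4.RkLift.height_add_coheight_eq hcat
        (Groth.Agent.Lib.Helper14.FEChain6.isEquidim_of_isDomain D) ⟨𝔭, h𝔭p⟩
      have h3 := Groth.Agent.Lib.Helper14.ringKrullDim_quotient_eq_coheight
        (⟨𝔭, h𝔭p⟩ : PrimeSpectrum D)
      change ringKrullDim (D ⧸ 𝔭) = _ at h3
      rw [h1] at h3
      have h4 : Order.coheight (⟨𝔭, h𝔭p⟩ : PrimeSpectrum D) = ((e' + 1 : ℕ) : ℕ∞) := by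
        exact_mod_cast h3.symm
      rw [← h2]
      change ((𝔭.height + _ : ℕ∞) : WithBot ℕ∞) = _
      rw [h𝔭ht, h4]
      push_cast
      rw [add_comm]

/-- **Ratliff**: the completion of a universally catenary Noetherian local domain is
equidimensional. -/
theorem isEquidim_cpl_of_isUniversallyCatenary (D : Type u) [CommRing D] [IsDomain D]
    [IsNoetherianRing D] [IsLocalRing D] (hUC : CAlg.IsUniversallyCatenary D) :
    EGA4.IsEquidim (Cpl D) := by
  intro P hP
  haveI : IsNoetherianRing (Cpl D) := ComplEtale.isNoetherianRing_completion D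
  haveI hPp : P.IsPrime := hP.1.1
  haveI : Nontrivial (Cpl D ⧸ P) := Ideal.Quotient.nontrivial_iff.mpr hPp.ne_top
  haveI : IsLocalRing (Cpl D ⧸ P) :=
    IsLocalRing.of_surjective' (Ideal.Quotient.mk P) Ideal.Quotient.mk_surjective
  obtain ⟨e, he⟩ : ∃ e : ℕ, ringKrullDim (Cpl D ⧸ P) = ((e : ℕ) : ℕ∞) := by
    have h1 : ringKrullDim (Cpl D ⧸ P) ≠ ⊤ := ringKrullDim_ne_top
    have h2 : ringKrullDim (Cpl D ⧸ P) ≠ ⊥ := ringKrullDim_ne_bot
    obtain ⟨n, hn⟩ := WithBot.ne_bot_iff_exists.mp h2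
    have h3 : n ≠ ⊤ := by
      intro h
      rw [h] at hn
      exact h1 hn.symm
    obtain ⟨m, hm⟩ := ENat.ne_top_iff_exists.mp h3
    exact ⟨m, by rw [← hn, ← hm]⟩
  rw [he, FormalEquidim.ringKrullDim_cpl, dim_eq_of_minimalPrime e D hUC P hP he]

/-- **Ratliff**: a universally catenary Noetherian local ring is formally catenary. -/
theorem isFormallyCatenary_of_isUniversallyCatenary (A : Type u) [CommRing A] [IsLocalRing A]
    [IsNoetherianRing A] (hA : CAlg.IsUniversallyCatenary A) : EGA4.IsFormallyCatenary A := by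
  intro p hp
  haveI : Nontrivial (A ⧸ p) := Ideal.Quotient.nontrivial_iff.mpr hp.ne_top
  haveI : IsLocalRing (A ⧸ p) :=
    IsLocalRing.of_surjective' (Ideal.Quotient.mk p) Ideal.Quotient.mk_surjective
  haveI : IsDomain (A ⧸ p) := Ideal.Quotient.isDomain p
  exact isEquidim_cpl_of_isUniversallyCatenary (A ⧸ p)
    (Groth.Agent.Lib.Helper14.ExcFC.isUniversallyCatenary_quotient A hA p)

end Groth.Agent.Lib.Helper14.Ratliff
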